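import Cfsg.Agent.Lib.Helper13.Asch.Defs

set_option autoImplicit false

namespace Cfsg.Agent.Lib.Helper58.Asch

open Cfsg Cfsg.Geo Matrix Cfsg.Agent.Lib.Helper13.Asch
open scoped Kronecker MatrixGroups

variable {ι : Type} [Fintype ι] [DecidableEq ι] {F : Type*} [Field F]

theorem finrank_dvd_card (L : Type*) [Field L] [Algebra F L] (ψ : L →ₐ[F] Matrix ι ι F) :
    Module.finrank F L ∣ Fintype.card ι := by
  let _ : Module L (ι → F) := Module.compHom (ι → F)
    (((Matrix.toLinAlgEquiv' : Matrix ι ι F ≃ₐ[F] ((ι → F) →ₗ[F] (ι → F))).toAlgHom.comp ψ).toRingHom :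
      L →+* Module.End F (ι → F))
  have hsmul : ∀ (l : L) (v : ι → F), l • v = ψ l *ᵥ v := fun l v => rfl
  have : IsScalarTower F L (ι → F) := ⟨fun c l v => by
    rw [hsmul, hsmul, map_smul, Matrix.smul_mulVec]⟩
  have h := Module.finrank_mul_finrank F L (ι → F)
  rw [Module.finrank_fintype_fun_eq_card] at h
  exact Dvd.intro _ h

/-- D6 -/
theorem dvd_card_of_field {r : ℕ} (K : Subalgebra F (Matrix ι ι F)) (hK : IsFieldSubalgebra r K) :
    r ∣ Fintype.card ι := by
  rcases isEmpty_or_nonempty ι with hι | hι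
  · rw [Fintype.card_eq_zero]
    exact dvd_zero r
  have hfield : IsField ↥K :=
    { exists_pair_ne := ⟨0, 1, fun h => zero_ne_one (congrArg Subtype.val h)⟩
      mul_comm := fun x y => Subtype.ext (hK.comm x.1 x.2 y.1 y.2)
      mul_inv_cancel := by
        intro a ha
        obtain ⟨y, hy, hay⟩ := hK.inv a.1 a.2 (fun h => ha (Subtype.ext h))
        exact ⟨⟨y, hy⟩, Subtype.ext hay⟩ }
  let instF : Field ↥K := hfield.toField
  let instA : Algebra F ↥K := K.algebra
  let ψ : ↥K →ₐ[F] Matrix ι ι F := K.val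
  have h := finrank_dvd_card (↥K) ψ
  rw [← hK.finrank_eq]
  exact h

end Cfsg.Agent.Lib.Helper58.Asch
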